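/-
The horseshoe lemma for injective resolutions.
-/
import Groth.Prelude.Def_RDer
import Groth.Prelude.Def_RDerDelta
import Mathlib.CategoryTheory.Abelian.Refinements
import Mathlib.Algebra.Homology.Refinements

set_option autoImplicit false

open CategoryTheory CategoryTheory.Limits

namespace Groth.Agent.Lib.RDer.Horseshoe

universe v u

variable {C : Type u} [Category.{v} C] [Abelian C]

/-- The augmentation, with source the resolved object. -/
abbrev aug {X : C} (J : InjectiveResolution X) : X ⟶ J.cocomplex.X 0 := J.ι.f 0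

instance mono_aug {X : C} (J : InjectiveResolution X) : Mono (aug J) := _root_.RDer.res_mono _ _

@[reassoc]
lemma aug_d {X : C} (J : InjectiveResolution X) : aug J ≫ J.cocomplex.d 0 1 = 0 := _root_.RDer.res_ι_d _ _

lemma exact_aug {X : C} (J : InjectiveResolution X) :
    (ShortComplex.mk (aug J) (J.cocomplex.d 0 1) (aug_d J)).Exact := _root_.RDer.res_exact₀ _ _

section gamma

variable {X₃ : C} (J : InjectiveResolution X₃) (I : CochainComplex C ℕ) [∀ n, Injective (I.X n)]

/-- Two consecutive components of the off-diagonal map. -/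
abbrev State (n : ℕ) : Type v :=
  { p : (J.cocomplex.X n ⟶ I.X (n + 1)) × (J.cocomplex.X (n + 1) ⟶ I.X (n + 1 + 1)) //
    p.1 ≫ I.d (n + 1) (n + 1 + 1) + J.cocomplex.d n (n + 1) ≫ p.2 = 0 }

lemma exists_step (n : ℕ) (s : State J I n) :
    ∃ s' : State J I (n + 1), s'.1.1 = s.1.2 := by
  have h0 : J.cocomplex.d n (n + 1) ≫ (s.1.2 ≫ I.d (n + 1 + 1) (n + 1 + 1 + 1)) = 0 := by
    have h := congrArg (· ≫ I.d (n + 1 + 1) (n + 1 + 1 + 1)) s.2
    simpa using h
  refine ⟨⟨(s.1.2, -(_root_.RDer.res_exact_succ J.cocomplex J.ι n).descToInjective _ h0), ?_⟩, rfl⟩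
  have h := (_root_.RDer.res_exact_succ J.cocomplex J.ι n).comp_descToInjective _ h0
  simp only [Preadditive.comp_neg]
  erw [h]
  exact add_neg_cancel _

lemma exists_gamma (σ : X₃ ⟶ I.X 1) (hσ : σ ≫ I.d 1 2 = 0) :
    ∃ γ : ∀ n, J.cocomplex.X n ⟶ I.X (n + 1), aug J ≫ γ 0 = σ ∧
      ∀ n, γ n ≫ I.d (n + 1) (n + 1 + 1) + J.cocomplex.d n (n + 1) ≫ γ (n + 1) = 0 := by
  let γ0 : J.cocomplex.X 0 ⟶ I.X 1 := Injective.factorThru σ (aug J)
  have hγ0 : aug J ≫ γ0 = σ := Injective.comp_factorThru _ _
  have h0 : aug J ≫ (γ0 ≫ I.d 1 2) = 0 := by rw [reassoc_of% hγ0, hσ]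
  let γ1 := -(exact_aug J).descToInjective _ h0
  let s0 : State J I 0 := ⟨(γ0, γ1), by
    simp only [γ1, Preadditive.comp_neg]
    erw [(exact_aug J).comp_descToInjective _ h0]
    exact add_neg_cancel _⟩
  choose next hnext using exists_step J I
  let seq : ∀ n, State J I n := Nat.rec s0 next
  refine ⟨fun n => (seq n).1.1, hγ0, fun n => ?_⟩
  dsimp only
  rw [show (seq (n + 1)).1.1 = (seq n).1.2 from hnext n (seq n)]
  exact (seq n).2

end gamma

theorem nonempty_sesRes [HasInjectiveResolutions C] {S : ShortComplex C} (hS : S.ShortExact) :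
    Nonempty (_root_.RDer.SESRes S) := by
  let I := injectiveResolution S.X₁
  let J := injectiveResolution S.X₃
  have := hS.mono_f
  have := hS.epi_g
  let r : S.X₂ ⟶ I.cocomplex.X 0 := Injective.factorThru (aug I) S.f
  have hr : S.f ≫ r = aug I := Injective.comp_factorThru (aug I) S.f
  have hIι : aug I ≫ I.cocomplex.d 0 1 = 0 := aug_d I
  have hJι : aug J ≫ J.cocomplex.d 0 (0 + 1) = 0 := aug_d J
  have hfr : S.f ≫ r ≫ I.cocomplex.d 0 1 = 0 := by rw [reassoc_of% hr]; exact hIι
  let ρ : S.X₃ ⟶ I.cocomplex.X 1 := hS.gIsCokernel.desc (CokernelCofork.ofπ _ hfr)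
  have hρ : S.g ≫ ρ = r ≫ I.cocomplex.d 0 1 :=
    hS.gIsCokernel.fac (CokernelCofork.ofπ _ hfr) WalkingParallelPair.one
  have hρd : (-ρ) ≫ I.cocomplex.d 1 2 = 0 := by
    rw [← cancel_epi S.g, comp_zero, Preadditive.neg_comp, Preadditive.comp_neg, reassoc_of% hρ]
    simp
  obtain ⟨γ, hγ0, hγ⟩ := exists_gamma J I.cocomplex (-ρ) hρd
  let d (n : ℕ) : I.cocomplex.X n ⊞ J.cocomplex.X n ⟶ I.cocomplex.X (n + 1) ⊞ J.cocomplex.X (n + 1) :=
    biprod.desc (I.cocomplex.d n (n + 1) ≫ biprod.inl)
      (γ n ≫ biprod.inl + J.cocomplex.d n (n + 1) ≫ biprod.inr)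
  have hd : ∀ n, d n ≫ d (n + 1) = 0 := by
    intro n
    apply biprod.hom_ext'
    · simp [d]
    · simp only [d, biprod.inr_desc_assoc, Preadditive.add_comp, Category.assoc, biprod.inl_desc,
        biprod.inr_desc, Preadditive.comp_add, HomologicalComplex.d_comp_d_assoc, zero_comp,
        add_zero, comp_zero]
      rw [← Category.assoc, ← Category.assoc (J.cocomplex.d n (n + 1)), ← Preadditive.add_comp, hγ, zero_comp]
  let M := CochainComplex.of (fun n => I.cocomplex.X n ⊞ J.cocomplex.X n) d hd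
  have hMd : ∀ n, M.d n (n + 1) = d n := fun n => CochainComplex.of_d (fun n => I.cocomplex.X n ⊞ J.cocomplex.X n) d n
  let ι₂ : S.X₂ ⟶ M.X 0 := biprod.lift r (S.g ≫ aug J)
  have hι₂ : ι₂ ≫ M.d 0 1 = 0 := by
    refine (congrArg (ι₂ ≫ ·) (hMd 0)).trans ?_
    simp only [ι₂, d, biprod.lift_desc, Preadditive.comp_add, Category.assoc]
    rw [reassoc_of% hγ0, reassoc_of% hJι]
    rw [← reassoc_of% hρ]
    simp
  let ι : (CochainComplex.single₀ C).obj S.X₂ ⟶ M := (M.fromSingle₀Equiv _).symm ⟨ι₂, hι₂⟩
  let f : I.cocomplex ⟶ M :=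
    { f := fun n => biprod.inl
      comm' := fun i j hij => by
        change i + 1 = j at hij
        subst hij
        rw [hMd]
        simp [d] }
  let g : M ⟶ J.cocomplex :=
    { f := fun n => biprod.snd
      comm' := fun i j hij => by
        change i + 1 = j at hij
        subst hij
        rw [hMd]
        apply biprod.hom_ext' <;> simp [d] }
  have w : f ≫ g = 0 := by ext n; exact biprod.inl_snd
  have hse : (ShortComplex.mk f g w).ShortExact := by
    apply HomologicalComplex.shortExact_of_degreewise_shortExact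
    intro n
    exact (ShortComplex.Splitting.ofHasBinaryBiproduct (I.cocomplex.X n) (J.cocomplex.X n)).shortExact
  have hd_split : ∀ (n : ℕ) {T : C} (x : T ⟶ M.X n), x ≫ d n = 0 →
      (x ≫ biprod.fst) ≫ I.cocomplex.d n (n + 1) + (x ≫ biprod.snd) ≫ γ n = 0 ∧
        (x ≫ biprod.snd) ≫ J.cocomplex.d n (n + 1) = 0 := by
    intro n T x hx
    constructor
    · have h1 := congrArg (· ≫ biprod.fst) hx
      simpa [d, biprod.desc_eq, Preadditive.add_comp, Preadditive.comp_add] using h1
    · have h1 := congrArg (· ≫ biprod.snd) hx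
      simpa [d, biprod.desc_eq, Preadditive.add_comp, Preadditive.comp_add] using h1
  have hqis : QuasiIso ι := by
    refine ⟨fun n => ?_⟩
    cases n with
    | zero =>
      rw [CochainComplex.quasiIsoAt₀_iff, ShortComplex.quasiIso_iff_of_zeros]
      rotate_left
      · rfl
      · rfl
      · rfl
      have hmono : Mono ι₂ := by
        refine Preadditive.mono_of_cancel_zero _ fun {T} u hu => ?_
        have h2 : (u ≫ S.g) ≫ aug J = 0 := by simpa [ι₂] using congrArg (· ≫ biprod.snd) hu
        have h1 : u ≫ r = 0 := by simpa [ι₂] using congrArg (· ≫ biprod.fst) hu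
        obtain ⟨T', e, he, w, hw⟩ := hS.exact.exact_up_to_refinements u (zero_of_comp_mono _ h2)
        have hw0 : w = 0 := by
          refine zero_of_comp_mono (aug I) ?_
          rw [← hr, ← reassoc_of% hw, h1, comp_zero]
        rw [← cancel_epi e, hw, hw0]
        simp
      have hex : (ShortComplex.mk ι₂ (d 0) ((hMd 0) ▸ hι₂)).Exact := by
        rw [ShortComplex.exact_iff_exact_up_to_refinements]
        intro T x hx
        obtain ⟨h1, h3⟩ := hd_split 0 x hx
        obtain ⟨T₁, e₁, he₁, v, hv⟩ := (exact_aug J).exact_up_to_refinements _ h3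
        obtain ⟨T₂, e₂, he₂, u, hu⟩ := surjective_up_to_refinements_of_epi S.g v
        have h4 : (e₂ ≫ e₁ ≫ x ≫ biprod.fst - u ≫ r) ≫ I.cocomplex.d 0 1 = 0 := by
          have := congrArg (fun t => e₂ ≫ e₁ ≫ t) h1
          simp only [Preadditive.comp_add, comp_zero] at this
          rw [Preadditive.sub_comp, Category.assoc u, ← hρ, ← reassoc_of% hu]
          simp only [Category.assoc] at this ⊢
          rw [eq_neg_of_add_eq_zero_left this, reassoc_of% hv]
          rw [hγ0]
          simp
        obtain ⟨T₃, e₃, he₃, w, hw⟩ := (exact_aug I).exact_up_to_refinements _ h4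
        refine ⟨T₃, e₃ ≫ e₂ ≫ e₁, inferInstance, e₃ ≫ u + w ≫ S.f, ?_⟩
        apply biprod.hom_ext
        · simp only [Category.assoc, ι₂, biprod.lift_fst, Preadditive.add_comp, hr]
          simp only [Preadditive.comp_sub] at hw
          erw [← hw]
          abel
        · simp [ι₂, reassoc_of% hu, hv]
      refine (ShortComplex.exact_and_mono_f_iff_of_iso ?_).2 ⟨hex, hmono⟩
      refine ShortComplex.isoMk (Iso.refl _) (Iso.refl _) (Iso.refl _) ?_ ?_
      · refine (Category.id_comp _).trans (Eq.trans ?_ (Category.comp_id _).symm); simp [ι]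
      · exact (Category.id_comp _).trans ((hMd 0).symm.trans (Category.comp_id _).symm)
    | succ n =>
      rw [quasiIsoAt_iff_exactAt _ _ (CochainComplex.exactAt_succ_single_obj _ _)]
      rw [HomologicalComplex.exactAt_iff_exact_up_to_refinements _ n (n + 1) (n + 1 + 1)
        (by simp) (by simp)]
      intro T x hx
      rw [hMd] at hx
      obtain ⟨h1, h3⟩ := hd_split (n + 1) x hx
      obtain ⟨T₁, e₁, he₁, z, hz⟩ :=
        (_root_.RDer.res_exact_succ J.cocomplex J.ι n).exact_up_to_refinements _ h3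
      have h4 : (e₁ ≫ x ≫ biprod.fst - z ≫ γ n) ≫ I.cocomplex.d (n + 1) (n + 1 + 1) = 0 := by
        have := congrArg (fun t => e₁ ≫ t) h1
        simp only [Preadditive.comp_add, comp_zero] at this
        rw [Preadditive.sub_comp, Category.assoc z, eq_neg_of_add_eq_zero_left (hγ n)]
        simp only [Category.assoc] at this ⊢
        rw [eq_neg_of_add_eq_zero_left this, reassoc_of% hz]
        simp
      obtain ⟨T₂, e₂, he₂, w, hw⟩ :=
        (_root_.RDer.res_exact_succ I.cocomplex I.ι n).exact_up_to_refinements _ h4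
      refine ⟨T₂, e₂ ≫ e₁, inferInstance, biprod.lift w (e₂ ≫ z), ?_⟩
      rw [hMd]
      apply biprod.hom_ext
      · simp only [d, Category.assoc, biprod.desc_eq, Preadditive.add_comp, Preadditive.comp_add,
          biprod.lift_fst_assoc, biprod.lift_snd_assoc, biprod.inl_fst, biprod.inr_fst, comp_zero,
          Category.comp_id, add_zero]
        erw [← hw]
        simp only [Preadditive.comp_sub]
        abel
      · simp [d, biprod.desc_eq, reassoc_of% hz]
        erw [hz]
  let I₂ : InjectiveResolution S.X₂ :=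
    { cocomplex := M
      injective := fun n => inferInstanceAs (Injective (I.cocomplex.X n ⊞ J.cocomplex.X n))
      ι := ι
      quasiIso := hqis }
  exact ⟨{
    I₁ := I
    I₂ := I₂
    I₃ := J
    f := f
    g := g
    zero := w
    ι_f := HomologicalComplex.from_single_hom_ext (by
      apply biprod.hom_ext <;> simp [f, ι, I₂, ι₂, hr])
    ι_g := HomologicalComplex.from_single_hom_ext (by simp [g, ι, I₂, ι₂])
    shortExact := hse }⟩

end Groth.Agent.Lib.RDer.Horseshoe
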