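/-
The connecting morphisms of right derived functors.
-/
import Groth.Agent.Lib.RDer.Horseshoe
import Mathlib.Algebra.Homology.HomologySequenceLemmas
import Mathlib.Algebra.Homology.Homotopy
import Mathlib.Algebra.Homology.Refinements

set_option autoImplicit false

open CategoryTheory CategoryTheory.Limits Groth.Agent.Lib.RDer.Horseshoe

namespace Groth.Agent.Lib.RDer.Connecting

universe v u v' u'

variable {C : Type u} [Category.{v} C] [Abelian C] {D : Type u'} [Category.{v'} D] [Abelian D]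

lemma comm_zero {X Y : C} {I : InjectiveResolution X} {J : InjectiveResolution Y} {f : X ⟶ Y}
    {φ : I.cocomplex ⟶ J.cocomplex} (h : I.ι ≫ φ = (CochainComplex.single₀ C).map f ≫ J.ι) :
    aug I ≫ φ.f 0 = f ≫ aug J := by
  have := congrArg (fun t => t.f 0) h
  simpa using! this

lemma epi_g {S : ShortComplex C} (T : _root_.RDer.SESRes S) : Epi S.g := by
  have hg := comm_zero (f := S.g) T.ι_g
  have hf := comm_zero (f := S.f) T.ι_f
  have hdeg : ∀ n, (T.cx.map (HomologicalComplex.eval C _ n)).ShortExact := fun n =>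
    T.shortExact.map_of_exact (HomologicalComplex.eval C _ n)
  have hepi : ∀ n, Epi (T.g.f n) := fun n => (hdeg n).epi_g
  have hmono : ∀ n, Mono (T.f.f n) := fun n => (hdeg n).mono_f
  rw [epi_iff_surjective_up_to_refinements]
  intro Z x
  obtain ⟨Z₁, e₁, he₁, y, hy⟩ := surjective_up_to_refinements_of_epi (T.g.f 0) (x ≫ aug T.I₃)
  obtain ⟨Z₂, e₂, he₂, z, hz'⟩ : ∃ (Z₂ : C) (e₂ : Z₂ ⟶ Z₁) (_ : Epi e₂) (z : Z₂ ⟶ T.I₁.cocomplex.X 1),
      e₂ ≫ y ≫ T.I₂.cocomplex.d 0 1 = z ≫ T.f.f 1 :=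
    (hdeg 1).exact.exact_up_to_refinements (y ≫ T.I₂.cocomplex.d 0 1) (by
    change (y ≫ T.I₂.cocomplex.d 0 1) ≫ T.g.f 1 = 0
    rw [Category.assoc, ← T.g.comm, ← reassoc_of% hy, aug_d]
    simp)
  obtain ⟨Z₃, e₃, he₃, w, hw⟩ := (_root_.RDer.res_exact_succ T.I₁.cocomplex T.I₁.ι 0).exact_up_to_refinements z (by
    change z ≫ T.I₁.cocomplex.d 1 2 = 0
    rw [← cancel_mono (T.f.f 2), zero_comp, Category.assoc, ← T.f.comm, ← reassoc_of% hz']
    simp)
  have hw' : e₃ ≫ z = w ≫ T.I₁.cocomplex.d 0 1 := hw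
  obtain ⟨Z₄, e₄, he₄, v, hv⟩ := (exact_aug T.I₂).exact_up_to_refinements (e₃ ≫ e₂ ≫ y - w ≫ T.f.f 0) (by
    change (e₃ ≫ e₂ ≫ y - w ≫ T.f.f 0) ≫ T.I₂.cocomplex.d 0 1 = 0
    rw [Preadditive.sub_comp, Category.assoc, Category.assoc, Category.assoc, hz', T.f.comm,
      reassoc_of% hw', sub_self])
  refine ⟨Z₄, e₄ ≫ e₃ ≫ e₂ ≫ e₁, inferInstance, v, ?_⟩
  rw [← cancel_mono (aug T.I₃)]
  have h0 : T.f.f 0 ≫ T.g.f 0 = 0 := by
    rw [← HomologicalComplex.comp_f, T.zero]; rfl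
  have hv' : e₄ ≫ (e₃ ≫ e₂ ≫ y - w ≫ T.f.f 0) = v ≫ aug T.I₂ := hv
  simp only [Category.assoc, hy, ← hg, ← reassoc_of% hv']
  simp [h0]

/-- Morphisms of short complexes lift to injective resolutions of short complexes. -/
theorem exists_lift {S S' : ShortComplex C} (T : _root_.RDer.SESRes S) (T' : _root_.RDer.SESRes S')
    (φ : S ⟶ S') :
    ∃ (f₁ : T.I₁.cocomplex ⟶ T'.I₁.cocomplex) (f₂ : T.I₂.cocomplex ⟶ T'.I₂.cocomplex)
      (f₃ : T.I₃.cocomplex ⟶ T'.I₃.cocomplex), f₁ ≫ T'.f = T.f ≫ f₂ ∧ f₂ ≫ T'.g = T.g ≫ f₃ ∧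
        aug T.I₁ ≫ f₁.f 0 = φ.τ₁ ≫ aug T'.I₁ ∧ aug T.I₃ ≫ f₃.f 0 = φ.τ₃ ≫ aug T'.I₃ := by
  have := epi_g T
  let f₁ := InjectiveResolution.desc φ.τ₁ T'.I₁ T.I₁
  let f₂ := InjectiveResolution.desc φ.τ₂ T'.I₂ T.I₂
  have c₁ : T.I₁.ι ≫ f₁ = (CochainComplex.single₀ C).map φ.τ₁ ≫ T'.I₁.ι :=
    InjectiveResolution.desc_commutes _ _ _
  have c₂ : T.I₂.ι ≫ f₂ = (CochainComplex.single₀ C).map φ.τ₂ ≫ T'.I₂.ι :=
    InjectiveResolution.desc_commutes _ _ _
  have g₁ : T.I₁.ι ≫ T.f ≫ f₂ = (CochainComplex.single₀ C).map (S.f ≫ φ.τ₂) ≫ T'.I₂.ι := by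
    rw [reassoc_of% T.ι_f, c₂, Functor.map_comp, Category.assoc]
  have g₂ : T.I₁.ι ≫ f₁ ≫ T'.f = (CochainComplex.single₀ C).map (S.f ≫ φ.τ₂) ≫ T'.I₂.ι := by
    rw [reassoc_of% c₁, T'.ι_f, ← φ.comm₁₂, Functor.map_comp, Category.assoc]
  let h := InjectiveResolution.descHomotopy (S.f ≫ φ.τ₂) (T.f ≫ f₂) (f₁ ≫ T'.f) g₁ g₂
  let r : ∀ n, T.I₂.cocomplex.X n ⟶ T.I₁.cocomplex.X n := fun n => (T.splitting n).r
  have hr : ∀ n, T.f.f n ≫ r n = 𝟙 _ := fun n => (T.splitting n).f_r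
  let k : ∀ i j, T.I₂.cocomplex.X i ⟶ T'.I₂.cocomplex.X j := fun i j => r i ≫ h.hom i j
  let N := Homotopy.nullHomotopicMap k
  have hN : T.f ≫ N = T.f ≫ f₂ - f₁ ≫ T'.f := by
    rw [Homotopy.comp_nullHomotopicMap]
    ext n
    simp only [k, reassoc_of% hr, HomologicalComplex.sub_f_apply]
    rw [h.comm n]
    simp [Homotopy.nullHomotopicMap]
  let f₂' := f₂ - N
  have h12 : f₁ ≫ T'.f = T.f ≫ f₂' := by
    simp only [f₂', Preadditive.comp_sub, hN]
    abel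
  have h13 : T.f ≫ f₂' ≫ T'.g = 0 := by
    rw [← reassoc_of% h12, T'.zero, comp_zero]
  let f₃ := T.shortExact.gIsCokernel.desc (CokernelCofork.ofπ _ h13)
  have h23 : T.g ≫ f₃ = f₂' ≫ T'.g :=
    T.shortExact.gIsCokernel.fac (CokernelCofork.ofπ _ h13) WalkingParallelPair.one
  refine ⟨f₁, f₂', f₃, h12, h23.symm, comm_zero (f := φ.τ₁) c₁, ?_⟩
  have hN0 : aug T.I₂ ≫ N.f 0 = 0 := by
    simp only [N]
    rw [Homotopy.nullHomotopicMap_f_of_not_rel_right (show (ComplexShape.up ℕ).Rel 0 1 from rfl)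
      (fun l hl => Nat.succ_ne_zero l hl), aug_d_assoc]
    exact zero_comp
  have hf₂ : aug T.I₂ ≫ f₂'.f 0 = φ.τ₂ ≫ aug T'.I₂ := by
    simp only [f₂', HomologicalComplex.sub_f_apply, Preadditive.comp_sub, hN0, sub_zero]
    exact comm_zero (f := φ.τ₂) c₂
  rw [← cancel_epi S.g, ← reassoc_of% (comm_zero (f := S.g) T.ι_g)]
  have h23' : T.g.f 0 ≫ f₃.f 0 = f₂'.f 0 ≫ T'.g.f 0 := congrArg (fun t => t.f 0) h23
  rw [h23', reassoc_of% hf₂, comm_zero (f := S'.g) T'.ι_g, reassoc_of% φ.comm₂₃]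

variable [HasInjectiveResolutions C] (F : C ⥤ D) [F.Additive]

/-- The `n`-th cohomology of `F I`. -/
noncomputable abbrev HF (K : CochainComplex C ℕ) (n : ℕ) : D :=
  ((F.mapHomologicalComplex (ComplexShape.up ℕ)).obj K).homology n

/-- The comparison isomorphism. -/
noncomputable abbrev cmp {X : C} (I : InjectiveResolution X) (n : ℕ) :
    (F.rightDerived n).obj X ≅ HF F I.cocomplex n :=
  I.isoRightDerivedObj F n

lemma cmp_natural {X Y : C} {f : X ⟶ Y} (I : InjectiveResolution X) (J : InjectiveResolution Y)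
    {φ : I.cocomplex ⟶ J.cocomplex} (h : aug I ≫ φ.f 0 = f ≫ aug J) (n : ℕ) :
    (F.rightDerived n).map f ≫ (cmp F J n).hom =
      (cmp F I n).hom ≫ HomologicalComplex.homologyMap ((F.mapHomologicalComplex (ComplexShape.up ℕ)).map φ) n :=
  InjectiveResolution.isoRightDerivedObj_hom_naturality f I J φ h F n

/-- The connecting morphism of complexes. -/
noncomputable abbrev dlt {S : ShortComplex C} (T : _root_.RDer.SESRes S) (n₀ n₁ : ℕ) (h : n₀ + 1 = n₁) :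
    HF F T.I₃.cocomplex n₀ ⟶ HF F T.I₁.cocomplex n₁ :=
  (T.map_shortExact F).δ n₀ n₁ h

lemma delta_comp_hom {S : ShortComplex C} (T : _root_.RDer.SESRes S) (n₀ n₁ : ℕ) (h : n₀ + 1 = n₁) :
    T.delta F n₀ n₁ h ≫ (cmp F T.I₁ n₁).hom = (cmp F T.I₃ n₀).hom ≫ dlt F T n₀ n₁ h :=
  T.delta_comp_isoRightDerivedObj_hom F n₀ n₁ h

theorem delta_natural {S S' : ShortComplex C} (T : _root_.RDer.SESRes S) (T' : _root_.RDer.SESRes S')
    (φ : S ⟶ S') (n₀ n₁ : ℕ) (h : n₀ + 1 = n₁) :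
    (F.rightDerived n₀).map φ.τ₃ ≫ T'.delta F n₀ n₁ h =
      T.delta F n₀ n₁ h ≫ (F.rightDerived n₁).map φ.τ₁ := by
  obtain ⟨f₁, f₂, f₃, h12, h23, e₁, e₃⟩ := exists_lift T T' φ
  let G := F.mapHomologicalComplex (ComplexShape.up ℕ)
  let ψ : T.cx.map G ⟶ T'.cx.map G :=
    G.mapShortComplex.map ({ τ₁ := f₁, τ₂ := f₂, τ₃ := f₃, comm₁₂ := h12, comm₂₃ := h23 } : T.cx ⟶ T'.cx)
  have hδ : dlt F T n₀ n₁ h ≫ HomologicalComplex.homologyMap (G.map f₁) n₁ =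
      HomologicalComplex.homologyMap (G.map f₃) n₀ ≫ dlt F T' n₀ n₁ h :=
    HomologicalComplex.HomologySequence.δ_naturality ψ (T.map_shortExact F) (T'.map_shortExact F) n₀ n₁ h
  rw [← cancel_mono (cmp F T'.I₁ n₁).hom, Category.assoc, Category.assoc,
    delta_comp_hom F T' n₀ n₁ h, cmp_natural F T.I₁ T'.I₁ e₁, ← Category.assoc,
    cmp_natural F T.I₃ T'.I₃ e₃, ← Category.assoc (T.delta F n₀ n₁ h), delta_comp_hom F T n₀ n₁ h,
    Category.assoc, Category.assoc, hδ]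

theorem delta_eq {S : ShortComplex C} (T T' : _root_.RDer.SESRes S) (n₀ n₁ : ℕ) (h : n₀ + 1 = n₁) :
    T.delta F n₀ n₁ h = T'.delta F n₀ n₁ h := by
  have := delta_natural F T T' (𝟙 S) n₀ n₁ h
  simpa using this.symm

lemma map_natural {X Y : C} {f : X ⟶ Y} (I : InjectiveResolution X) (J : InjectiveResolution Y)
    {φ : I.cocomplex ⟶ J.cocomplex} (h : I.ι ≫ φ = (CochainComplex.single₀ C).map f ≫ J.ι) (n : ℕ) :
    (F.rightDerived n).map f ≫ (cmp F J n).hom =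
      (cmp F I n).hom ≫ HomologicalComplex.homologyMap ((F.mapHomologicalComplex (ComplexShape.up ℕ)).map φ) n :=
  cmp_natural F I J (comm_zero h) n

theorem nonempty_derivedLES [EnoughInjectives C] : Nonempty (_root_.RDer.DerivedLES F) := by
  let res (S : ShortComplex C) (hS : S.ShortExact) : _root_.RDer.SESRes S := (nonempty_sesRes hS).some
  let δ (S : ShortComplex C) (hS : S.ShortExact) (n₀ n₁ : ℕ) (h : n₀ + 1 = n₁) :=
    (res S hS).delta F n₀ n₁ h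
  have c₂ : ∀ (S : ShortComplex C) (hS : S.ShortExact) (n₀ n₁ : ℕ) (h : n₀ + 1 = n₁),
      (F.rightDerived n₀).map S.g ≫ δ S hS n₀ n₁ h = 0 := by
    intro S hS n₀ n₁ h
    let T := res S hS
    have e : HomologicalComplex.homologyMap ((F.mapHomologicalComplex (ComplexShape.up ℕ)).map T.g) n₀ ≫
        dlt F T n₀ n₁ h = 0 := (T.map_shortExact F).comp_δ n₀ n₁ h
    change (F.rightDerived n₀).map S.g ≫ T.delta F n₀ n₁ h = 0
    rw [← cancel_mono (cmp F T.I₁ n₁).hom, zero_comp, Category.assoc,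
      delta_comp_hom F T n₀ n₁ h, ← Category.assoc, map_natural F T.I₂ T.I₃ T.ι_g n₀, Category.assoc,
      e, comp_zero]
  have c₁ : ∀ (S : ShortComplex C) (hS : S.ShortExact) (n₀ n₁ : ℕ) (h : n₀ + 1 = n₁),
      δ S hS n₀ n₁ h ≫ (F.rightDerived n₁).map S.f = 0 := by
    intro S hS n₀ n₁ h
    let T := res S hS
    have e : dlt F T n₀ n₁ h ≫
        HomologicalComplex.homologyMap ((F.mapHomologicalComplex (ComplexShape.up ℕ)).map T.f) n₁ = 0 :=
      (T.map_shortExact F).δ_comp n₀ n₁ h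
    change T.delta F n₀ n₁ h ≫ (F.rightDerived n₁).map S.f = 0
    rw [← cancel_mono (cmp F T.I₂ n₁).hom, zero_comp, Category.assoc,
      map_natural F T.I₁ T.I₂ T.ι_f n₁, ← Category.assoc, delta_comp_hom F T n₀ n₁ h, Category.assoc,
      e, comp_zero]
  exact ⟨{
    δ := δ
    δ_eq := fun S hS T n₀ n₁ h => delta_eq F _ T n₀ n₁ h
    δ_natural := fun {S S'} hS hS' φ n₀ n₁ h => delta_natural F _ _ φ n₀ n₁ h
    comp_δ := c₂
    δ_comp := c₁
    exact₂ := fun S hS n => by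
      let T := res S hS
      refine ShortComplex.exact_of_iso ?_ ((T.map_shortExact F).homology_exact₂ n)
      exact (ShortComplex.isoMk (T.I₁.isoRightDerivedObj F n) (T.I₂.isoRightDerivedObj F n)
        (T.I₃.isoRightDerivedObj F n) (map_natural F T.I₁ T.I₂ T.ι_f n).symm
        (map_natural F T.I₂ T.I₃ T.ι_g n).symm).symm
    exact₃ := fun S hS n₀ n₁ h => by
      let T := res S hS
      refine ShortComplex.exact_of_iso ?_ ((T.map_shortExact F).homology_exact₃ n₀ n₁ h)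
      exact (ShortComplex.isoMk (T.I₂.isoRightDerivedObj F n₀) (T.I₃.isoRightDerivedObj F n₀)
        (T.I₁.isoRightDerivedObj F n₁) (map_natural F T.I₂ T.I₃ T.ι_g n₀).symm
        (delta_comp_hom F T n₀ n₁ h).symm).symm
    exact₁ := fun S hS n₀ n₁ h => by
      let T := res S hS
      refine ShortComplex.exact_of_iso ?_ ((T.map_shortExact F).homology_exact₁ n₀ n₁ h)
      exact (ShortComplex.isoMk (T.I₃.isoRightDerivedObj F n₀) (T.I₁.isoRightDerivedObj F n₁)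
        (T.I₂.isoRightDerivedObj F n₁) (delta_comp_hom F T n₀ n₁ h).symm
        (map_natural F T.I₁ T.I₂ T.ι_f n₁).symm).symm }⟩

end Groth.Agent.Lib.RDer.Connecting
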