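import Groth.Agent.Lib.RDer.Connecting
import Mathlib.Algebra.Homology.ShortComplex.ExactFunctor

/-!
Comparison of right derived functors along exact functors, by dimension shifting.
-/

set_option autoImplicit false

open CategoryTheory CategoryTheory.Limits

namespace Groth.Agent.Lib.RDer.Compare

universe v₁ v₂ v₃ v₄ u₁ u₂ u₃ u₄

variable {A : Type u₁} [Category.{v₁} A] [Abelian A] [EnoughInjectives A]
  {B : Type u₂} [Category.{v₂} B] [Abelian B]
  {A' : Type u₃} [Category.{v₃} A'] [Abelian A'] [EnoughInjectives A']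
  {B' : Type u₄} [Category.{v₄} B'] [Abelian B']

variable {G : A ⥤ B} [G.Additive] {G' : A' ⥤ B'} [G'.Additive]

/-- The degree one derived functor as a cokernel, when the middle term is acyclic. -/
noncomputable def cokernelIso (Δ : _root_.RDer.DerivedLES G) {S : ShortComplex A} (hS : S.ShortExact)
    (h : IsZero ((G.rightDerived 1).obj S.X₂)) :
    cokernel ((G.rightDerived 0).map S.g) ≅ (G.rightDerived 1).obj S.X₁ :=
  haveI : Epi (Δ.δ S hS 0 1 rfl) :=
    (Δ.exact₁ S hS 0 1 rfl).epi_f (h.eq_zero_of_tgt _)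
  (cokernelIsCokernel _).coconePointUniqueUpToIso (Δ.exact₃ S hS 0 1 rfl).gIsCokernel

/-- The connecting map is an isomorphism, when the middle term is acyclic. -/
noncomputable def shiftIso (Δ : _root_.RDer.DerivedLES G) {S : ShortComplex A} (hS : S.ShortExact)
    (n : ℕ) (h : IsZero ((G.rightDerived (n + 1)).obj S.X₂))
    (h' : IsZero ((G.rightDerived (n + 2)).obj S.X₂)) :
    (G.rightDerived (n + 1)).obj S.X₃ ≅ (G.rightDerived (n + 2)).obj S.X₁ :=
  haveI : Epi (Δ.δ S hS (n + 1) (n + 2) rfl) :=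
    (Δ.exact₁ S hS (n + 1) (n + 2) rfl).epi_f (h'.eq_zero_of_tgt _)
  haveI : Mono (Δ.δ S hS (n + 1) (n + 2) rfl) :=
    (Δ.exact₃ S hS (n + 1) (n + 2) rfl).mono_g (h.eq_zero_of_src _)
  haveI : IsIso (Δ.δ S hS (n + 1) (n + 2) rfl) := isIso_of_mono_of_epi _
  asIso (Δ.δ S hS (n + 1) (n + 2) rfl)

/-- An isomorphism in degree zero and acyclicity of injectives give isomorphisms in all degrees. -/
theorem nonempty_iso [PreservesFiniteLimits G] [PreservesFiniteLimits G']
    (EA : A ⥤ A') [EA.PreservesZeroMorphisms] (EB : B ⥤ B') [EB.PreservesZeroMorphisms]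
    [PreservesFiniteColimits EB]
    (hEA : ∀ {S : ShortComplex A}, S.ShortExact → (S.map EA).ShortExact)
    (α : G ⋙ EB ≅ EA ⋙ G')
    (hI : ∀ (I : A) [Injective I] (q : ℕ), IsZero ((G'.rightDerived (q + 1)).obj (EA.obj I)))
    (q : ℕ) (F : A) :
    Nonempty ((G'.rightDerived q).obj (EA.obj F) ≅ EB.obj ((G.rightDerived q).obj F)) := by
  obtain ⟨Δ⟩ := Connecting.nonempty_derivedLES G
  obtain ⟨Δ'⟩ := Connecting.nonempty_derivedLES G'
  let α₀ : G.rightDerived 0 ⋙ EB ≅ EA ⋙ G'.rightDerived 0 :=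
    Functor.isoWhiskerRight G.rightDerivedZeroIsoSelf EB ≪≫ α ≪≫
      Functor.isoWhiskerLeft EA G'.rightDerivedZeroIsoSelf.symm
  induction q generalizing F with
  | zero => exact ⟨(α₀.app F).symm⟩
  | succ n ih =>
    let S : ShortComplex A :=
      ShortComplex.mk (Injective.ι F) (cokernel.π (Injective.ι F)) (cokernel.condition _)
    have hS : S.ShortExact := { exact := ShortComplex.exact_of_g_is_cokernel _ (cokernelIsCokernel _) }
    have hS' := hEA hS
    have h : ∀ k, IsZero ((G.rightDerived (k + 1)).obj S.X₂) := fun k =>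
      G.isZero_rightDerived_obj_injective_succ k (Injective.under F)
    have h' : ∀ k, IsZero ((G'.rightDerived (k + 1)).obj (S.map EA).X₂) := fun k =>
      hI (Injective.under F) k
    cases n with
    | zero =>
      exact ⟨(cokernelIso Δ' hS' (h' 0)).symm ≪≫
        (cokernel.mapIso (EB.map ((G.rightDerived 0).map S.g)) ((G'.rightDerived 0).map (S.map EA).g)
          (α₀.app S.X₂) (α₀.app S.X₃) (α₀.hom.naturality S.g)).symm ≪≫
        (PreservesCokernel.iso EB _).symm ≪≫ EB.mapIso (cokernelIso Δ hS (h 0))⟩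
    | succ n =>
      obtain ⟨e⟩ := ih S.X₃
      exact ⟨(shiftIso Δ' hS' n (h' n) (h' (n + 1))).symm ≪≫ e ≪≫
        EB.mapIso (shiftIso Δ hS n (h n) (h (n + 1)))⟩

end Groth.Agent.Lib.RDer.Compare
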