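import Mathlib.CategoryTheory.Abelian.RightDerived
import Mathlib.Algebra.Homology.HomologySequenceLemmas
import Mathlib.Algebra.Homology.HomologicalComplexBiprod
import Mathlib.Algebra.Homology.HomologicalComplexAbelian
import Mathlib.CategoryTheory.Abelian.Exact

/-!
# Long exact sequences of right derived functors from exact sequences of functors on injectives
-/

set_option autoImplicit false

universe v u v' u'

open CategoryTheory CategoryTheory.Limits

namespace Groth.Agent.Lib.RDer.TransLES

variable {C : Type u} [Category.{v} C] [Abelian C] [HasInjectiveResolutions C]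
  {D : Type u'} [Category.{v'} D] [Abelian D]
  {F G₁ G₂ H : C ⥤ D} [F.Additive] [G₁.Additive] [G₂.Additive] [H.Additive]
  (α₁ : F ⟶ G₁) (α₂ : F ⟶ G₂) (β₁ : G₁ ⟶ H) (β₂ : G₂ ⟶ H)

/-- A map of cochain complexes which is mono in degree zero is mono on cohomology there. -/
lemma mono_homologyMap_zero {K L : CochainComplex D ℕ} (φ : K ⟶ L) [Mono (φ.f 0)] :
    Mono (HomologicalComplex.homologyMap φ 0) := by
  have hK : IsIso (K.homologyπ 0) :=
    K.isIso_homologyπ ((ComplexShape.up ℕ).prev 0) 0 rfl (K.shape _ _ (by simp))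
  have hm : Mono (HomologicalComplex.cyclesMap φ 0) := by
    have : Mono (HomologicalComplex.cyclesMap φ 0 ≫ L.iCycles 0) := by
      rw [HomologicalComplex.cyclesMap_i]
      infer_instance
    exact mono_of_mono _ (L.iCycles 0)
  have hL : IsIso (L.homologyπ 0) :=
    L.isIso_homologyπ ((ComplexShape.up ℕ).prev 0) 0 rfl (L.shape _ _ (by simp))
  have : Mono (K.homologyπ 0 ≫ HomologicalComplex.homologyMap φ 0) := by
    rw [HomologicalComplex.homologyπ_naturality]
    infer_instance
  refine Preadditive.mono_of_cancel_zero _ fun {Z} k hk => ?_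
  have h0 : (k ≫ inv (K.homologyπ 0)) ≫ (K.homologyπ 0 ≫ HomologicalComplex.homologyMap φ 0) =
      0 ≫ (K.homologyπ 0 ≫ HomologicalComplex.homologyMap φ 0) := by
    rw [Category.assoc, IsIso.inv_hom_id_assoc, hk, zero_comp]
  rw [cancel_mono] at h0
  simpa using h0 =≫ K.homologyπ 0

section Complexes

variable {K L M N : CochainComplex D ℕ} (a : K ⟶ L) (b : K ⟶ M) (c : L ⟶ N) (d : M ⟶ N)

lemma biprod_zero (w : ∀ i, biprod.lift (a.f i) (b.f i) ≫ biprod.desc (c.f i) (d.f i) = 0) :
    biprod.lift a b ≫ biprod.desc c d = 0 := by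
  rw [biprod.lift_desc]
  ext i
  have h := w i
  rw [biprod.lift_desc] at h
  simpa using h

lemma shortExact_biprod (w : ∀ i, biprod.lift (a.f i) (b.f i) ≫ biprod.desc (c.f i) (d.f i) = 0)
    (h : ∀ i, (ShortComplex.mk _ _ (w i)).ShortExact) :
    (ShortComplex.mk _ _ (biprod_zero a b c d w)).ShortExact := by
  refine HomologicalComplex.shortExact_of_degreewise_shortExact _ fun i => ?_
  refine ShortComplex.shortExact_of_iso (ShortComplex.isoMk (S₁ := ShortComplex.mk _ _ (w i))
    (S₂ := (ShortComplex.mk _ _ (biprod_zero a b c d w)).map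
      (HomologicalComplex.eval D (ComplexShape.up ℕ) i)) (Iso.refl _)
    (HomologicalComplex.biprodXIso L M i).symm (Iso.refl _) ?_ ?_) (h i)
  · change 𝟙 _ ≫ (biprod.lift a b).f i = biprod.lift (a.f i) (b.f i) ≫ (HomologicalComplex.biprodXIso L M i).inv
    rw [Category.id_comp]
    refine (Iso.eq_comp_inv _).2 ?_
    apply biprod.hom_ext
    · rw [Category.assoc, HomologicalComplex.biprodXIso_hom_fst, ← HomologicalComplex.comp_f,
        biprod.lift_fst, biprod.lift_fst]
    · rw [Category.assoc, HomologicalComplex.biprodXIso_hom_snd, ← HomologicalComplex.comp_f,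
        biprod.lift_snd, biprod.lift_snd]
  · change (HomologicalComplex.biprodXIso L M i).inv ≫ (biprod.desc c d).f i =
      biprod.desc (c.f i) (d.f i) ≫ 𝟙 _
    rw [Category.comp_id]
    apply biprod.hom_ext'
    · rw [← Category.assoc, HomologicalComplex.inl_biprodXIso_inv, ← HomologicalComplex.comp_f,
        biprod.inl_desc, biprod.inl_desc]
    · rw [← Category.assoc, HomologicalComplex.inr_biprodXIso_inv, ← HomologicalComplex.comp_f,
        biprod.inr_desc, biprod.inr_desc]

variable {A A₁ A₂ B : ℕ → D} (rK : ∀ n, A n ≅ K.homology n) (rL : ∀ n, A₁ n ≅ L.homology n)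
  (rM : ∀ n, A₂ n ≅ M.homology n) (rN : ∀ n, B n ≅ N.homology n)
  {a' : ∀ n, A n ⟶ A₁ n} {b' : ∀ n, A n ⟶ A₂ n} {c' : ∀ n, A₁ n ⟶ B n} {d' : ∀ n, A₂ n ⟶ B n}

/-- The long exact sequence, transported along isomorphisms. -/
theorem exists_les_aux
    (ha : ∀ n, a' n ≫ (rL n).hom = (rK n).hom ≫ HomologicalComplex.homologyMap a n)
    (hb : ∀ n, b' n ≫ (rM n).hom = (rK n).hom ≫ HomologicalComplex.homologyMap b n)
    (hc : ∀ n, c' n ≫ (rN n).hom = (rL n).hom ≫ HomologicalComplex.homologyMap c n)
    (hd : ∀ n, d' n ≫ (rN n).hom = (rM n).hom ≫ HomologicalComplex.homologyMap d n)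
    (w : ∀ i, biprod.lift (a.f i) (b.f i) ≫ biprod.desc (c.f i) (d.f i) = 0)
    (h : ∀ i, (ShortComplex.mk _ _ (w i)).ShortExact) :
    ∃ δ : ∀ n : ℕ, B n ⟶ A (n + 1), Mono (biprod.lift (a' 0) (b' 0)) ∧ ∀ n : ℕ,
      (ComposableArrows.mk₂ (biprod.lift (a' n) (b' n)) (biprod.desc (c' n) (d' n))).Exact ∧
      (ComposableArrows.mk₂ (biprod.desc (c' n) (d' n)) (δ n)).Exact ∧
      (ComposableArrows.mk₂ (δ n) (biprod.lift (a' (n + 1)) (b' (n + 1)))).Exact := by
  have hT := shortExact_biprod a b c d w h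
  let m : ∀ n, L.homology n ⊞ M.homology n ≅ (L ⊞ M).homology n := fun n =>
    { hom := biprod.desc (HomologicalComplex.homologyMap biprod.inl n) (HomologicalComplex.homologyMap biprod.inr n)
      inv := biprod.lift (HomologicalComplex.homologyMap biprod.fst n) (HomologicalComplex.homologyMap biprod.snd n)
      hom_inv_id := by
        apply biprod.hom_ext' <;> apply biprod.hom_ext <;>
          simp [← HomologicalComplex.homologyMap_comp]
      inv_hom_id := by
        rw [biprod.lift_desc, ← HomologicalComplex.homologyMap_comp, ← HomologicalComplex.homologyMap_comp,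
          ← HomologicalComplex.homologyMap_add, biprod.total, HomologicalComplex.homologyMap_id] }
  let e₂ : ∀ n, A₁ n ⊞ A₂ n ≅ (L ⊞ M).homology n := fun n => biprod.mapIso (rL n) (rM n) ≪≫ m n
  have hlift : ∀ n, biprod.lift (a' n) (b' n) ≫ (e₂ n).hom =
      (rK n).hom ≫ HomologicalComplex.homologyMap (biprod.lift a b) n := fun n => by
    haveI : IsIso (m n).inv := (m n).symm.isIso_hom
    apply (cancel_mono (m n).inv).1
    simp only [e₂, Iso.trans_hom, Category.assoc, Iso.hom_inv_id, Category.comp_id, biprod.mapIso_hom]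
    apply biprod.hom_ext <;> simp [m, ← HomologicalComplex.homologyMap_comp, ha, hb]
  have hdesc : ∀ n, biprod.desc (c' n) (d' n) ≫ (rN n).hom =
      (e₂ n).hom ≫ HomologicalComplex.homologyMap (biprod.desc c d) n := fun n => by
    apply biprod.hom_ext' <;>
      simp [e₂, m, ← HomologicalComplex.homologyMap_comp, hc, hd]
  let δ : ∀ n : ℕ, B n ⟶ A (n + 1) := fun n => (rN n).hom ≫ hT.δ n (n + 1) rfl ≫ (rK (n + 1)).inv
  have hδ : ∀ n, δ n ≫ (rK (n + 1)).hom = (rN n).hom ≫ hT.δ n (n + 1) rfl := fun n =>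
    (Category.assoc _ _ _).trans (congrArg ((rN n).hom ≫ ·)
      ((Category.assoc _ _ _).trans ((congrArg _ (rK (n + 1)).inv_hom_id).trans (Category.comp_id _))))
  have z₁ : ∀ n, biprod.lift (a' n) (b' n) ≫ biprod.desc (c' n) (d' n) = 0 := fun n => by
    rw [← cancel_mono (rN n).hom, Category.assoc, hdesc, reassoc_of% (hlift n),
      ← HomologicalComplex.homologyMap_comp, biprod_zero a b c d w,
      HomologicalComplex.homologyMap_zero, comp_zero, zero_comp]
  have z₂ : ∀ n, biprod.desc (c' n) (d' n) ≫ δ n = 0 := fun n => by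
    rw [← cancel_mono (rK (n + 1)).hom, Category.assoc, hδ, reassoc_of% (hdesc n)]
    exact ((congrArg _ (hT.comp_δ n (n + 1) rfl)).trans comp_zero).trans zero_comp.symm
  have z₃ : ∀ n, δ n ≫ biprod.lift (a' (n + 1)) (b' (n + 1)) = 0 := fun n => by
    rw [← cancel_mono (e₂ (n + 1)).hom, Category.assoc, hlift, reassoc_of% (hδ n)]
    exact ((congrArg _ (hT.δ_comp n (n + 1) rfl)).trans comp_zero).trans zero_comp.symm
  refine ⟨δ, ?_, fun n => ⟨?_, ?_, ?_⟩⟩
  · have : Mono ((biprod.lift a b).f 0) := (hT.map_of_exact (HomologicalComplex.eval D _ 0)).mono_f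
    have := mono_homologyMap_zero (biprod.lift a b)
    have h2 : Mono ((rK 0).hom ≫ HomologicalComplex.homologyMap (biprod.lift a b) 0) := inferInstance
    rw [← hlift 0] at h2
    exact mono_of_mono _ (e₂ 0).hom
  · refine (ShortComplex.exact_of_iso ?_ (hT.homology_exact₂ n)).exact_toComposableArrows
      (S := ShortComplex.mk _ _ (z₁ n))
    exact (ShortComplex.isoMk (rK n) (e₂ n) (rN n) (hlift n).symm (hdesc n).symm).symm
  · refine (ShortComplex.exact_of_iso ?_ (hT.homology_exact₃ n (n + 1) rfl)).exact_toComposableArrows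
      (S := ShortComplex.mk _ _ (z₂ n))
    exact (ShortComplex.isoMk (e₂ n) (rN n) (rK (n + 1)) (hdesc n).symm (hδ n).symm).symm
  · refine (ShortComplex.exact_of_iso ?_ (hT.homology_exact₁ n (n + 1) rfl)).exact_toComposableArrows
      (S := ShortComplex.mk _ _ (z₃ n))
    exact (ShortComplex.isoMk (rN n) (rK (n + 1)) (e₂ (n + 1)) (hδ n).symm (hlift (n + 1)).symm).symm

end Complexes

lemma conj_comp_hom {A B B' E : D} (a : A ⟶ B) (m : B ⟶ B') (e : E ≅ B') :
    (a ≫ m ≫ e.inv) ≫ e.hom = a ≫ m := by simp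

/-- A natural sequence, exact on injectives, gives a long exact sequence of derived functors. -/
theorem exists_les
    (w : ∀ I, biprod.lift (α₁.app I) (α₂.app I) ≫ biprod.desc (β₁.app I) (-(β₂.app I)) = 0)
    (hS : ∀ (I : C) [Injective I], (ShortComplex.mk _ _ (w I)).ShortExact) (X : C) :
    ∃ δ : ∀ n : ℕ, (H.rightDerived n).obj X ⟶ (F.rightDerived (n + 1)).obj X,
      Mono (biprod.lift ((NatTrans.rightDerived α₁ 0).app X) ((NatTrans.rightDerived α₂ 0).app X)) ∧
      ∀ n : ℕ,
        (ComposableArrows.mk₂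
          (biprod.lift ((NatTrans.rightDerived α₁ n).app X) ((NatTrans.rightDerived α₂ n).app X))
          (biprod.desc ((NatTrans.rightDerived β₁ n).app X)
            (-((NatTrans.rightDerived β₂ n).app X)))).Exact ∧
        (ComposableArrows.mk₂
          (biprod.desc ((NatTrans.rightDerived β₁ n).app X)
            (-((NatTrans.rightDerived β₂ n).app X))) (δ n)).Exact ∧
        (ComposableArrows.mk₂ (δ n)
          (biprod.lift ((NatTrans.rightDerived α₁ (n + 1)).app X)
            ((NatTrans.rightDerived α₂ (n + 1)).app X))).Exact := by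
  let P := injectiveResolution X
  refine exists_les_aux (a' := fun n => (NatTrans.rightDerived α₁ n).app X)
    (b' := fun n => (NatTrans.rightDerived α₂ n).app X)
    (c' := fun n => (NatTrans.rightDerived β₁ n).app X)
    (d' := fun n => -((NatTrans.rightDerived β₂ n).app X)) ((NatTrans.mapHomologicalComplex α₁ _).app P.cocomplex)
    ((NatTrans.mapHomologicalComplex α₂ _).app P.cocomplex)
    ((NatTrans.mapHomologicalComplex β₁ _).app P.cocomplex)
    (-((NatTrans.mapHomologicalComplex β₂ _).app P.cocomplex))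
    (fun n => P.isoRightDerivedObj F n) (fun n => P.isoRightDerivedObj G₁ n)
    (fun n => P.isoRightDerivedObj G₂ n) (fun n => P.isoRightDerivedObj H n)
    (fun n => ?_) (fun n => ?_) (fun n => ?_) (fun n => ?_) (fun i => w (P.cocomplex.X i))
    (fun i => @hS (P.cocomplex.X i) (P.injective i))
  · rw [P.rightDerived_app_eq α₁ n]; exact conj_comp_hom _ _ _
  · rw [P.rightDerived_app_eq α₂ n]; exact conj_comp_hom _ _ _
  · rw [P.rightDerived_app_eq β₁ n]; exact conj_comp_hom _ _ _
  · rw [P.rightDerived_app_eq β₂ n, Preadditive.neg_comp, HomologicalComplex.homologyMap_neg,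
      Preadditive.comp_neg]
    exact congrArg Neg.neg (conj_comp_hom _ _ _)

end Groth.Agent.Lib.RDer.TransLES
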